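import Groth.Agent.S1364
import Groth.Agent.S8533
import Groth.Agent.S7838
import Groth.Agent.Lib.GeomComp6.BaseChange
import Groth.Agent.Lib.FEt21.Clopen
import Groth.Agent.Lib.Unibranch.Unramified
import Groth.Agent.Lib.EtDescent21.Lift

/-!
# Covers of proper flat families over strictly henselian bases and their geometric fibres
-/

set_option autoImplicit false
set_option backward.isDefEq.respectTransparency false

universe u

open CategoryTheory CategoryTheory.Limits AlgebraicGeometry

namespace Groth.Agent.GeomFibre21

theorem geometricallyReduced_of_algClosed {X S : Scheme.{u}} (f : X ⟶ S)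
    (h : ∀ (Ω : Type u) [Field Ω] [IsAlgClosed Ω] (s : Spec (CommRingCat.of Ω) ⟶ S),
      IsReduced (pullback f s)) : GeometricallyReduced f := by
  refine ⟨fun K _ y Z fst snd hZ => ?_⟩
  let c : Spec (CommRingCat.of (AlgebraicClosure K)) ⟶ Spec (CommRingCat.of K) :=
    Spec.map (CommRingCat.ofHom (algebraMap K (AlgebraicClosure K)))
  haveI : Surjective c := ⟨fun x => ⟨IsLocalRing.closedPoint _, Subsingleton.elim (α := PrimeSpectrum K) _ _⟩⟩
  haveI : IsReduced (Spec (CommRingCat.of K)) := inferInstance
  haveI : IsSchemeTheoreticallyDominant c := IsSchemeTheoreticallyDominant.of_isDominant c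
  haveI : IsReduced (pullback (pullback.snd f y) c) := by
    haveI := h (AlgebraicClosure K) (c ≫ y)
    exact isReduced_of_isOpenImmersion (pullbackLeftPullbackSndIso f y c).hom
  haveI : IsReduced (pullback f y) :=
    IsSchemeTheoreticallyDominant.isReduced (pullback.fst (pullback.snd f y) c)
  exact isReduced_of_isOpenImmersion hZ.isoPullback.hom

variable {A : Type u} [CommRing A] [HenselianLocalRing A] [IsSepClosed (IsLocalRing.ResidueField A)]

/-- A connected proper flat family with geometrically reduced fibres has connected geometric fibres. -/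
theorem connectedSpace_pullback {W : Scheme.{u}} (g : W ⟶ Spec (CommRingCat.of A)) [IsProper g] [Flat g]
    [LocallyOfFinitePresentation g] [GeometricallyReduced g] [ConnectedSpace W] {Ω : Type u} [Field Ω]
    [IsSepClosed Ω] (t : Spec (CommRingCat.of Ω) ⟶ Spec (CommRingCat.of A)) :
    ConnectedSpace ↥(pullback g t) := by
  let S := Spec (CommRingCat.of A)
  let c : S := IsLocalRing.closedPoint A
  let ι := Spec.map (CommRingCat.ofHom (IsLocalRing.residue A))
  have hι : GrothLib.GeomRed6.pt ι = c := IsLocalRing.comap_closedPoint (IsLocalRing.residue A)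
  have h1 : MoreMor.nGeomConnComp g c = ENat.card (_root_.ConnectedComponents ↥(pullback g ι)) :=
    congrArg Prod.snd (GrothLib.GeomComp6.count_geomFiber_eq g ι hι)
  have h2 : MoreMor.nGeomConnComp g (GrothLib.GeomRed6.pt t) =
      ENat.card (_root_.ConnectedComponents ↥(pullback g t)) :=
    congrArg Prod.snd (GrothLib.GeomComp6.count_geomFiber_eq g t rfl)
  haveI : PreconnectedSpace S := ⟨isPreconnected_of_forall c fun y _ =>
    ⟨closure {y}, Set.subset_univ _, specializes_iff_mem_closure.mp
      (IsLocalRing.specializes_closedPoint (R := A) y), subset_closure rfl,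
      isPreconnected_singleton.closure⟩⟩
  have h3 : MoreMor.nGeomConnComp g (GrothLib.GeomRed6.pt t) = MoreMor.nGeomConnComp g c :=
    (Groth.Agent.S1364.result g).apply_eq_of_preconnectedSpace _ _
  haveI : IsClosedImmersion ι := IsClosedImmersion.spec_of_surjective _ IsLocalRing.residue_surjective
  haveI : IsClosedImmersion (pullback.fst g ι) := MorphismProperty.pullback_fst _ _ inferInstance
  haveI : ConnectedSpace ↥(pullback g ι) := by
    haveI : HenselianRing A (IsLocalRing.maximalIdeal A) := inferInstance
    refine (GrothLib.PropH0.connectedSpace_iff g (IsLocalRing.maximalIdeal A) _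
      (pullback.fst g ι).isEmbedding ?_).mp ‹_›
    rw [Scheme.Pullback.range_fst, GrothLib.EtDescent21.Z0_eq]
    congr 1
    exact GrothLib.EtDescent21.range_clPt
  have h4 : ENat.card (_root_.ConnectedComponents ↥(pullback g ι)) = 1 := by
    haveI : Unique (_root_.ConnectedComponents ↥(pullback g ι)) :=
      Classical.choice ((unique_iff_subsingleton_and_nonempty _).mpr ⟨inferInstance, inferInstance⟩)
    simp
  rw [h3, h1, h4] at h2
  obtain ⟨u⟩ := ENat.card_eq_one_iff_unique.mp h2.symm
  let p := u.default
  obtain ⟨x, -⟩ := ConnectedComponents.surjective_coe p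
  haveI : PreconnectedSpace ↥(pullback g t) :=
    preconnectedSpace_iff_connectedComponent.mpr fun a => Set.eq_univ_of_forall fun b =>
      (ConnectedComponents.coe_eq_coe'.mp (Subsingleton.elim (ConnectedComponents.mk b) (ConnectedComponents.mk a)))
  exact { toNonempty := ⟨x⟩ }

theorem finite_connectedComponents {W : Scheme.{u}} (g : W ⟶ Spec (CommRingCat.of A)) [IsProper g] :
    Finite (_root_.ConnectedComponents W) := by
  let c : Spec (CommRingCat.of A) := IsLocalRing.closedPoint A
  let ι := Spec.map (CommRingCat.ofHom (IsLocalRing.residue A))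
  have hι : GrothLib.GeomRed6.pt ι = c := IsLocalRing.comap_closedPoint (IsLocalRing.residue A)
  have h1 : MoreMor.nGeomConnComp g c = ENat.card (_root_.ConnectedComponents ↥(pullback g ι)) :=
    congrArg Prod.snd (GrothLib.GeomComp6.count_geomFiber_eq g ι hι)
  haveI : Finite (_root_.ConnectedComponents ↥(pullback g ι)) :=
    ENat.card_lt_top.mp (h1 ▸ (Groth.Agent.S7838.result g c).1)
  haveI : IsClosedImmersion ι := IsClosedImmersion.spec_of_surjective _ IsLocalRing.residue_surjective
  haveI : IsClosedImmersion (pullback.fst g ι) := MorphismProperty.pullback_fst _ _ inferInstance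
  haveI : HenselianRing A (IsLocalRing.maximalIdeal A) := inferInstance
  refine Finite.of_surjective _ (GrothLib.PropH0.bijective_connectedComponentsMap g
    (IsLocalRing.maximalIdeal A) _ (pullback.fst g ι).isEmbedding ?_).2
  rw [Scheme.Pullback.range_fst, GrothLib.EtDescent21.Z0_eq]
  congr 1
  exact GrothLib.EtDescent21.range_clPt

/-- Restriction to a geometric fibre is fully faithful. -/
theorem restrict_fullyFaithful {X : Scheme.{u}} (f : X ⟶ Spec (CommRingCat.of A))
    [IsProper f] [Flat f] [LocallyOfFinitePresentation f] [GeometricallyReduced f]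
    {Ω : Type u} [Field Ω] [IsAlgClosed Ω] (t : Spec (CommRingCat.of Ω) ⟶ Spec (CommRingCat.of A)) :
    (FEt.restrict (pullback.fst f t)).Full ∧ (FEt.restrict (pullback.fst f t)).Faithful := by
  have key : ∀ (B : FEt.Cat X) (c : _root_.ConnectedComponents B.left),
      IsClopen (ConnectedComponents.mk ⁻¹' {c}) ∧
      _root_.IsPreconnected (pullback.fst B.hom (pullback.fst f t) ⁻¹' (ConnectedComponents.mk ⁻¹' {c})) ∧
      (pullback.fst B.hom (pullback.fst f t) ⁻¹' (ConnectedComponents.mk ⁻¹' {c})).Nonempty := by
    intro B c
    let b : B.left ⟶ X := B.hom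
    haveI : IsFinite b := B.prop.1
    haveI : Etale b := B.prop.2
    haveI : Finite (_root_.ConnectedComponents B.left) := finite_connectedComponents (b ≫ f)
    have hc : IsClopen (ConnectedComponents.mk ⁻¹' {c} : Set B.left) :=
      ⟨(isClosed_discrete _).preimage ConnectedComponents.continuous_coe,
        (isOpen_discrete _).preimage ConnectedComponents.continuous_coe⟩
    let W : B.left.Opens := ⟨_, hc.2⟩
    haveI : IsClosedImmersion W.ι :=
      IsClosedImmersion.of_isPreimmersion _ (by rw [Scheme.Opens.range_ι]; exact hc.1)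
    haveI : ConnectedSpace (W : Scheme.{u}) := by
      obtain ⟨x, hx⟩ := ConnectedComponents.surjective_coe c
      have : (W : Set B.left) = connectedComponent x := by
        show ConnectedComponents.mk ⁻¹' {c} = _
        rw [← hx]
        exact connectedComponents_preimage_singleton
      exact isConnected_iff_connectedSpace.mp (this ▸ isConnected_connectedComponent)
    let g := W.ι ≫ b ≫ f
    haveI : GeometricallyReduced g := geometricallyReduced_of_algClosed g fun K _ _ s => by
      let e : pullback g s ⟶ pullback f s :=
        pullback.map g s f s (W.ι ≫ b) (𝟙 _) (𝟙 _) (by simp [g]) (by simp)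
      haveI : Etale e := MorphismProperty.pullbackMap (P := @Etale) inferInstance inferInstance
        (show g = (W.ι ≫ b) ≫ f by simp [g]) (Category.id_comp s).symm
      haveI : IsReduced (pullback f s) :=
        GeometricallyReduced.geometrically_isReduced _ _ _ (IsPullback.of_hasPullback _ _)
      exact GrothLib.Unibranch.isReduced_of_etale e
    haveI : ConnectedSpace ↥(pullback g t) := connectedSpace_pullback g t
    let m : pullback g t ⟶ pullback b (pullback.fst f t) :=
      pullback.lift (pullback.fst g t ≫ W.ι)
        (pullback.lift (pullback.fst g t ≫ W.ι ≫ b) (pullback.snd g t) (by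
          simpa [g] using pullback.condition (f := g) (g := t)))
        (by simp)
    have hsq : IsPullback m (pullback.fst g t) (pullback.fst b (pullback.fst f t)) W.ι := by
      have h₀ : IsPullback (pullback.fst g t) (pullback.snd g t) g t := IsPullback.of_hasPullback _ _
      refine IsPullback.of_right (h₁₂ := pullback.snd b (pullback.fst f t) ≫ pullback.snd f t)
        (h₂₂ := b ≫ f) (v₁₃ := t) ?_ (pullback.lift_fst _ _ _) ?_
      · simpa [m, g] using h₀.flip
      · exact ((IsPullback.of_hasPullback b (pullback.fst f t)).paste_vert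
          (IsPullback.of_hasPullback f t)).flip
    have hr : Set.range m = pullback.fst b (pullback.fst f t) ⁻¹' (ConnectedComponents.mk ⁻¹' {c}) := by
      ext z
      refine ⟨?_, fun hz => ?_⟩
      · rintro ⟨w, rfl⟩
        show pullback.fst b (pullback.fst f t) (m w) ∈ (W : Set B.left)
        rw [← Scheme.Hom.comp_apply, hsq.w, Scheme.Hom.comp_apply, ← Scheme.Opens.range_ι W]
        exact ⟨_, rfl⟩
      · obtain ⟨w, hw⟩ : pullback.fst b (pullback.fst f t) z ∈ Set.range W.ι := by
          rw [Scheme.Opens.range_ι]; exact hz
        obtain ⟨o, ho, -⟩ := Scheme.exists_preimage_of_isPullback hsq z w hw.symm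
        exact ⟨o, ho⟩
    refine ⟨hc, hr ▸ isPreconnected_range m.continuous, hr ▸ Set.range_nonempty _⟩
  refine GrothLib.FEt21.fullyFaithful_of_clopen _ (fun B D hD he => ?_) fun B C hC => ?_
  · refine Set.eq_empty_of_forall_notMem fun x hx => ?_
    obtain ⟨p, hp⟩ := (key B (ConnectedComponents.mk x)).2.2
    refine Set.eq_empty_iff_forall_notMem.mp he p (hD.connectedComponent_subset hx ?_)
    exact ConnectedComponents.coe_eq_coe'.mp hp
  · let b : B.left ⟶ X := B.hom
    haveI : IsFinite b := B.prop.1
    haveI : Finite (_root_.ConnectedComponents B.left) := finite_connectedComponents (b ≫ f)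
    refine ⟨ConnectedComponents.mk ⁻¹' (ConnectedComponents.mk '' (pullback.fst B.hom _ '' C)),
      ⟨(isClosed_discrete _).preimage ConnectedComponents.continuous_coe,
        (isOpen_discrete _).preimage ConnectedComponents.continuous_coe⟩, ?_⟩
    ext p
    refine ⟨?_, fun hp => ⟨_, ⟨p, hp, rfl⟩, rfl⟩⟩
    rintro ⟨_, ⟨q, hq, rfl⟩, hqp⟩
    exact (key B _).2.1.subset_isClopen hC ⟨q, rfl, hq⟩ hqp.symm

end Groth.Agent.GeomFibre21
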